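import Cfsg.Agent.KFacts.OddLift.USixL.Diff

/-!
# Two commuting extraspecial blocks in a central 2-extension of `PSU₆(2)`

`wom`: the product of the two commutators (scalar `ω` on the first and on the last three coordinates) is 1.
-/

set_option autoImplicit false
set_option linter.unusedSectionVars false
set_option linter.unusedSimpArgs false

namespace Cfsg.Agent.H109.US

open Subgroup Cfsg Cfsg.Agent.LieClassical.HermBasic Cfsg.Agent.ClassicalGeometry.UnitTransv
  Cfsg.Agent.SporadicStructure.UnitTwo Cfsg.Agent.R01.PSUSix Cfsg.Agent.KFacts.OddLift.USixL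
open Cfsg.Agent.ClassicalGeometry.UnitAutBasic (tau pr pr_surjective pr_eq_of_scalar)
open scoped commutatorElement

universe u v

variable {F : Type v} [Field F] [Fintype F] {hF : Fintype.card F = 2 ^ 2}

section Group

variable {K : Type u} [Group K]

/-- a central element of a 2-group with cube 1 -/
theorem eq_one_of_cube {N : Subgroup K} (h2 : IsPGroup 2 N) {z : K} (hz : z ∈ N) (h3 : z ^ 3 = 1) : z = 1 := by
  obtain ⟨k, hk⟩ := h2 ⟨z, hz⟩
  have hk' : z ^ (2 ^ k) = 1 := by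
    have := congrArg Subtype.val hk
    simpa using this
  have h4 : orderOf z ∣ 3 := orderOf_dvd_of_pow_eq_one h3
  have h5 : orderOf z ∣ 2 ^ k := orderOf_dvd_of_pow_eq_one hk'
  have h6 : Nat.Coprime 3 (2 ^ k) := Nat.Coprime.pow_right k (by norm_num)
  exact orderOf_eq_one_iff.1 (Nat.dvd_one.1 (h6 ▸ Nat.dvd_gcd h4 h5))

variable {X : Type v} [Group X]

/-- an element of order 3 that commutes with `c` modulo a central 2-group commutes with `c` -/
theorem commute_of_map {f : K →* X} (hZ : f.ker ≤ center K) (h2 : IsPGroup 2 f.ker) {c p : K} (hp : p ^ 3 = 1)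
    (hc : f c * f p = f p * f c) : c * p = p * c := by
  have hz : c * p * c⁻¹ * p⁻¹ ∈ f.ker := by
    rw [MonoidHom.mem_ker, map_mul, map_mul, map_mul, map_inv, map_inv, hc]
    group
  set z := c * p * c⁻¹ * p⁻¹ with hzd
  have e1 : c * p * c⁻¹ = z * p := by rw [hzd]; group
  have hzc := mem_center_iff.1 (hZ hz)
  have e2 : (z * p) ^ 3 = z ^ 3 := by
    have hcm : Commute z p := (hzc p).symm
    rw [hcm.mul_pow, hp, mul_one]
  have e3 : z ^ 3 = 1 := by
    rw [← e2, ← e1, conj_pow, hp, mul_one, mul_inv_cancel]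
  have e4 := eq_one_of_cube h2 hz e3
  rw [e4, one_mul] at e1
  exact mul_inv_eq_iff_eq_mul.1 e1

/-- the commutator of two elements of order 3, commuting with both, has order 3 -/
theorem cube_comm {p q c : K} (hq : q ^ 3 = 1) (hc : p * q * p⁻¹ = c * q) (hcq : c * q = q * c) :
    c ^ 3 = 1 := by
  have hcm : Commute c q := hcq
  have e : (p * q * p⁻¹) ^ 3 = c ^ 3 := by rw [hc, hcm.mul_pow, hq, mul_one]
  rw [← e, conj_pow, hq, mul_one, mul_inv_cancel]

end Group

variable {K : Type u} [Group K] {f : K →* PSU 6 F 2} {t : (Fin 6 → F) → K}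

theorem braid (h : TL hF f t) {a b : Fin 6 → F} (ha : hermForm 6 F 2 a a = 0) (hb : hermForm 6 F 2 b b = 0)
    (hab : hermForm 6 F 2 a b ≠ 0) : t a * t b * t a = t b * t a * t b := by
  have ia : (t a)⁻¹ = t a := inv_eq_of_mul_eq_one_left (h.sq a ha)
  have ib : (t b)⁻¹ = t b := inv_eq_of_mul_eq_one_left (h.sq b hb)
  have e1 := h.conj (t a) (T hF a ha) b hb (map_t h ha)
  have e2 := h.conj (t b) (T hF b hb) a ha (map_t h hb)
  rw [ia] at e1
  rw [ib] at e2
  rw [e1, e2]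
  have h3 := pow_three hF hab
  have e3 : act (T hF a ha) b = (hermForm 6 F 2 a b) ^ 2 • act (T hF b hb) a := by
    rw [act_T, act_T, herm_swap hF a b]
    funext i
    simp only [Pi.add_apply, Pi.smul_apply, smul_eq_mul]
    linear_combination (- b i) * h3
  rw [e3]
  refine h.smul _ _ (pow_ne_zero 2 hab) ?_
  rw [herm_act]
  exact ha

theorem cube_ab (h : TL hF f t) {a b : Fin 6 → F} (ha : hermForm 6 F 2 a a = 0) (hb : hermForm 6 F 2 b b = 0)
    (hab : hermForm 6 F 2 a b ≠ 0) : (t a * t b) ^ 3 = 1 := by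
  have e := braid h ha hb hab
  have sa := h.sq a ha
  have sb := h.sq b hb
  calc (t a * t b) ^ 3 = (t a * t b * t a) * (t b * t a * t b) := by rw [pow_succ, pow_two]; group
    _ = (t a * t b * t a) * (t a * t b * t a) := by rw [← e]
    _ = t a * t b * (t a * t a) * t b * t a := by group
    _ = t a * (t b * t b) * t a := by rw [sa]; group
    _ = 1 := by rw [sb, mul_one, sa]

/-- the word -/
def wd (t : (Fin 6 → F) → K) (a b d : Fin 6 → F) : K := t a * t b * t a * t d * t b * t a * t d * t a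

/-- the image of the word -/
def wg (hF : Fintype.card F = 2 ^ 2) {a b d : Fin 6 → F} (ha : hermForm 6 F 2 a a = 0) (hb : hermForm 6 F 2 b b = 0)
    (hd : hermForm 6 F 2 d d = 0) : SU 6 F 2 :=
  T hF a ha * T hF b hb * T hF a ha * T hF d hd * T hF b hb * T hF a ha * T hF d hd * T hF a ha

theorem map_wd (h : TL hF f t) {a b d : Fin 6 → F} (ha : hermForm 6 F 2 a a = 0) (hb : hermForm 6 F 2 b b = 0)
    (hd : hermForm 6 F 2 d d = 0) : f (wd t a b d) = pr 6 F 2 (wg hF ha hb hd) := by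
  unfold wd wg
  simp only [map_mul, map_t h ha, map_t h hb, map_t h hd]

theorem cube_wd (h : TL hF f t) (hZ : f.ker ≤ center K) (h2 : IsPGroup 2 f.ker) {a b d : Fin 6 → F}
    (ha : hermForm 6 F 2 a a = 0) (hb : hermForm 6 F 2 b b = 0) (hd : hermForm 6 F 2 d d = 0)
    (had : hermForm 6 F 2 a d ≠ 0)
    (cd : wg hF ha hb hd * (T hF a ha * T hF d hd) = (T hF a ha * T hF d hd) * wg hF ha hb hd) :
    wd t a b d ^ 3 = 1 := by
  have ia : (t a)⁻¹ = t a := inv_eq_of_mul_eq_one_left (h.sq a ha)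
  have ib : (t b)⁻¹ = t b := inv_eq_of_mul_eq_one_left (h.sq b hb)
  have id' : (t d)⁻¹ = t d := inv_eq_of_mul_eq_one_left (h.sq d hd)
  have hq := cube_ab h ha hd had
  refine cube_comm (p := t a * t b) hq ?_ ?_
  · unfold wd
    rw [mul_inv_rev, ia, ib]
    have e1 : t d * t d = 1 := h.sq d hd
    have e2 : t a * t a = 1 := h.sq a ha
    calc t a * t b * (t a * t d) * (t b * t a) = t a * t b * t a * t d * t b * t a := by group
      _ = t a * t b * t a * t d * t b * t a * (t d * t d) := by rw [e1, mul_one]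
      _ = t a * t b * t a * t d * t b * t a * t d * (t a * t a) * t d := by rw [e2, mul_one]; group
      _ = _ := by group
  · refine commute_of_map hZ h2 hq ?_
    rw [map_wd h ha hb hd, map_mul, map_t h ha, map_t h hd, ← map_mul, ← map_mul, ← map_mul, cd]

section Vectors

variable (hF)

/-- the six vectors -/
def a0 : Fin 6 → F := ![1, 1, 0, 0, 0, 0]
/-- the six vectors -/
def b0 (ω : F) : Fin 6 → F := ![1, ω, 0, 0, 0, 0]
/-- the six vectors -/
def d0 : Fin 6 → F := ![0, 1, 1, 0, 0, 0]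
/-- the six vectors -/
def a1 : Fin 6 → F := ![0, 0, 0, 1, 1, 0]
/-- the six vectors -/
def b1 (ω : F) : Fin 6 → F := ![0, 0, 0, 1, ω, 0]
/-- the six vectors -/
def d1 : Fin 6 → F := ![0, 0, 0, 0, 1, 1]

theorem fsum (x y : Fin 6 → F) : hermForm 6 F 2 x y =
    x 0 * y 0 ^ 2 + x 1 * y 1 ^ 2 + x 2 * y 2 ^ 2 + x 3 * y 3 ^ 2 + x 4 * y 4 ^ 2 + x 5 * y 5 ^ 2 := by
  rw [herm_def, Fin.sum_univ_six]

include hF

theorem ha0 : hermForm 6 F 2 a0 a0 = 0 := by
  rw [fsum]; simp [a0]; linear_combination two_eq_zero hF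
theorem hd0 : hermForm 6 F 2 d0 d0 = 0 := by
  rw [fsum]; simp [d0]; linear_combination two_eq_zero hF
theorem ha1 : hermForm 6 F 2 a1 a1 = 0 := by
  rw [fsum]; simp [a1]; linear_combination two_eq_zero hF
theorem hd1 : hermForm 6 F 2 d1 d1 = 0 := by
  rw [fsum]; simp [d1]; linear_combination two_eq_zero hF

theorem hb0 {ω : F} (hω : ω ^ 2 + ω + 1 = 0) : hermForm 6 F 2 (b0 ω) (b0 ω) = 0 := by
  have h3 := omega_cubed hω
  rw [fsum]; simp [b0]; linear_combination two_eq_zero hF + h3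
theorem hb1 {ω : F} (hω : ω ^ 2 + ω + 1 = 0) : hermForm 6 F 2 (b1 ω) (b1 ω) = 0 := by
  have h3 := omega_cubed hω
  rw [fsum]; simp [b1]; linear_combination two_eq_zero hF + h3

theorem had0 : hermForm 6 F 2 a0 d0 ≠ 0 := by
  rw [fsum]; simp [a0, d0]
theorem had1 : hermForm 6 F 2 a1 d1 ≠ 0 := by
  rw [fsum]; simp [a1, d1]

theorem act_a0 (x : Fin 6 → F) : act (T hF a0 (ha0 hF)) x = ![x 1, x 0, x 2, x 3, x 4, x 5] := by
  have h2 := two_eq_zero hF
  rw [act_T, fsum]
  funext i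
  fin_cases i <;> simp [a0]
  · linear_combination x 0 * h2
  · linear_combination x 1 * h2

theorem act_d0 (x : Fin 6 → F) : act (T hF d0 (hd0 hF)) x = ![x 0, x 2, x 1, x 3, x 4, x 5] := by
  have h2 := two_eq_zero hF
  rw [act_T, fsum]
  funext i
  fin_cases i <;> simp [d0]
  · linear_combination x 1 * h2
  · linear_combination x 2 * h2

theorem act_a1 (x : Fin 6 → F) : act (T hF a1 (ha1 hF)) x = ![x 0, x 1, x 2, x 4, x 3, x 5] := by
  have h2 := two_eq_zero hF
  rw [act_T, fsum]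
  funext i
  fin_cases i <;> simp [a1]
  · linear_combination x 3 * h2
  · linear_combination x 4 * h2

theorem act_d1 (x : Fin 6 → F) : act (T hF d1 (hd1 hF)) x = ![x 0, x 1, x 2, x 3, x 5, x 4] := by
  have h2 := two_eq_zero hF
  rw [act_T, fsum]
  funext i
  fin_cases i <;> simp [d1]
  · linear_combination x 4 * h2
  · linear_combination x 5 * h2

theorem act_b0 {ω : F} (hω : ω ^ 2 + ω + 1 = 0) (x : Fin 6 → F) :
    act (T hF (b0 ω) (hb0 hF hω)) x = ![ω ^ 2 * x 1, ω * x 0, x 2, x 3, x 4, x 5] := by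
  have h2 := two_eq_zero hF
  have h3 := omega_cubed hω
  rw [act_T, fsum]
  funext i
  fin_cases i <;> simp [b0]
  · linear_combination x 0 * h2
  · linear_combination x 1 * h2 + x 1 * h3

theorem act_b1 {ω : F} (hω : ω ^ 2 + ω + 1 = 0) (x : Fin 6 → F) :
    act (T hF (b1 ω) (hb1 hF hω)) x = ![x 0, x 1, x 2, ω ^ 2 * x 4, ω * x 3, x 5] := by
  have h2 := two_eq_zero hF
  have h3 := omega_cubed hω
  rw [act_T, fsum]
  funext i
  fin_cases i <;> simp [b1]
  · linear_combination x 3 * h2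
  · linear_combination x 4 * h2 + x 4 * h3

theorem act_w0 {ω : F} (hω : ω ^ 2 + ω + 1 = 0) (x : Fin 6 → F) :
    act (wg hF (ha0 hF) (hb0 hF hω) (hd0 hF)) x = ![ω * x 0, ω * x 1, ω * x 2, x 3, x 4, x 5] := by
  have h3 := omega_cubed hω
  unfold wg
  simp only [act_mul, act_a0, act_b0 hF hω, act_d0]
  funext i
  fin_cases i <;> simp
  · linear_combination (ω * x 1) * h3

theorem act_w1 {ω : F} (hω : ω ^ 2 + ω + 1 = 0) (x : Fin 6 → F) :
    act (wg hF (ha1 hF) (hb1 hF hω) (hd1 hF)) x = ![x 0, x 1, x 2, ω * x 3, ω * x 4, ω * x 5] := by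
  have h3 := omega_cubed hω
  unfold wg
  simp only [act_mul, act_a1, act_b1 hF hω, act_d1]
  funext i
  fin_cases i <;> simp
  · linear_combination (ω * x 4) * h3

end Vectors

theorem wom' (h : TL hF f t) (hZ : f.ker ≤ center K) (h2 : IsPGroup 2 f.ker) {ω : F} (hω : ω ^ 2 + ω + 1 = 0) :
    wd t a0 (b0 ω) d0 * wd t a1 (b1 ω) d1 = 1 := by
  have c0 : wd t a0 (b0 ω) d0 ^ 3 = 1 := by
    refine cube_wd h hZ h2 (ha0 hF) (hb0 hF hω) (hd0 hF) (had0 hF) ?_
    refine ext_act fun x => ?_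
    simp only [act_mul, act_w0 hF hω, act_a0, act_d0]
    funext i
    fin_cases i <;> simp
  have c1 : wd t a1 (b1 ω) d1 ^ 3 = 1 := by
    refine cube_wd h hZ h2 (ha1 hF) (hb1 hF hω) (hd1 hF) (had1 hF) ?_
    refine ext_act fun x => ?_
    simp only [act_mul, act_w1 hF hω, act_a1, act_d1]
    funext i
    fin_cases i <;> simp
  have hz : wd t a0 (b0 ω) d0 * wd t a1 (b1 ω) d1 ∈ f.ker := by
    rw [MonoidHom.mem_ker, map_mul, map_wd h (ha0 hF) (hb0 hF hω) (hd0 hF), map_wd h (ha1 hF) (hb1 hF hω) (hd1 hF),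
      ← map_mul, ← map_one (pr 6 F 2), eq_comm]
    refine pr_eq_of_scalar (c := ω) fun x => ?_
    change act (_ * _) x = ω • act 1 x
    rw [act_mul, act_w0 hF hω, act_w1 hF hω, act_one]
    funext i
    fin_cases i <;> simp
  refine eq_one_of_cube h2 hz ?_
  have hzc := mem_center_iff.1 (hZ hz)
  generalize wd t a0 (b0 ω) d0 = A at *
  generalize wd t a1 (b1 ω) d1 = B at *
  have e : B = A⁻¹ * (A * B) := by group
  have hcm : Commute A⁻¹ (A * B) := hzc A⁻¹
  rw [e, hcm.mul_pow, inv_pow, c0, inv_one, one_mul] at c1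
  exact c1

/-- **the relation between the two blocks** -/
theorem wom (h : TL hF f t) (hZ : f.ker ≤ center K) (h2 : IsPGroup 2 f.ker) {ω : F} (hω : ω ^ 2 + ω + 1 = 0) :
    t ![1, 1, 0, 0, 0, 0] * t ![1, ω, 0, 0, 0, 0] * t ![1, 1, 0, 0, 0, 0] * t ![0, 1, 1, 0, 0, 0] *
      t ![1, ω, 0, 0, 0, 0] * t ![1, 1, 0, 0, 0, 0] * t ![0, 1, 1, 0, 0, 0] * t ![1, 1, 0, 0, 0, 0] *
      (t ![0, 0, 0, 1, 1, 0] * t ![0, 0, 0, 1, ω, 0] * t ![0, 0, 0, 1, 1, 0] * t ![0, 0, 0, 0, 1, 1] *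
        t ![0, 0, 0, 1, ω, 0] * t ![0, 0, 0, 1, 1, 0] * t ![0, 0, 0, 0, 1, 1] * t ![0, 0, 0, 1, 1, 0]) = 1 :=
  wom' h hZ h2 hω

end Cfsg.Agent.H109.US
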